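import Groth.Agent.ArtFunLib.Formal
import Groth.Agent.AdicRing.Basic
import Groth.Agent.Matlis6.CompletionNoetherian
import Mathlib.RingTheory.AdicCompletion.LocalRing

/-!
# Limits of systems of Artinian quotients of a Noetherian algebra
-/

universe u

open CategoryTheory IsLocalRing ArtFun

namespace Groth.Agent.Schless

/-- Chevalley's lemma for separated decreasing sequences of open ideals in a complete local ring. -/
theorem chevalley {S : Type u} [CommRing S] [IsLocalRing S] [IsNoetherianRing S]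
    [IsPrecomplete (maximalIdeal S) S] (K : ℕ → Ideal S) (hanti : Antitone K) (hK : ⨅ n, K n = ⊥)
    (hpow : ∀ n, ∃ N, maximalIdeal S ^ N ≤ K n) (n : ℕ) : ∃ N, K N ≤ maximalIdeal S ^ n := by
  have hstab : ∀ i, ∃ j, ∀ j', j ≤ j' → K j ⊔ maximalIdeal S ^ i ≤ K j' ⊔ maximalIdeal S ^ i := by
    intro i
    cases i with
    | zero => exact ⟨0, fun j' _ => by simp⟩
    | succ i =>
      let q := Ideal.Quotient.mk (maximalIdeal S ^ (i + 1))
      have : Nontrivial (S ⧸ maximalIdeal S ^ (i + 1)) :=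
        Ideal.Quotient.nontrivial_iff.2 fun h => (maximalIdeal.isMaximal S).ne_top
          (top_le_iff.1 (h ▸ Ideal.pow_le_self i.succ_ne_zero))
      have : IsLocalRing (S ⧸ maximalIdeal S ^ (i + 1)) :=
        IsLocalRing.of_surjective' q Ideal.Quotient.mk_surjective
      have : IsArtinianRing (S ⧸ maximalIdeal S ^ (i + 1)) := by
        rw [isArtinianRing_iff_isNilpotent_maximalIdeal]
        refine ⟨i + 1, ?_⟩
        rw [Ideal.zero_eq_bot, ← le_bot_iff, ← Ideal.map_quotient_self (maximalIdeal S ^ (i + 1)),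
          Ideal.map_pow]
        refine Ideal.pow_right_mono ?_ _
        intro x hx
        obtain ⟨a, rfl⟩ := Ideal.Quotient.mk_surjective x
        refine Ideal.mem_map_of_mem _ ?_
        rw [IsLocalRing.mem_maximalIdeal] at hx ⊢
        exact fun hu => hx (hu.map q)
      obtain ⟨_, ⟨j, rfl⟩, hj⟩ := WellFounded.has_min (r := ((· < ·) : Ideal (S ⧸ _) → _ → Prop))
        wellFounded_lt (Set.range fun j => (K j).map q) ⟨_, 0, rfl⟩
      refine ⟨j, fun j' hj' => ?_⟩
      have : (K j').map q = (K j).map q :=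
        eq_of_le_of_not_lt (Ideal.map_mono (hanti hj')) (hj _ ⟨j', rfl⟩)
      calc K j ⊔ maximalIdeal S ^ (i + 1) = ((K j).map q).comap q := by
            rw [Ideal.comap_map_of_surjective' q Ideal.Quotient.mk_surjective, Ideal.mk_ker]
        _ = ((K j').map q).comap q := by rw [this]
        _ ≤ K j' ⊔ maximalIdeal S ^ (i + 1) := by
            rw [Ideal.comap_map_of_surjective' q Ideal.Quotient.mk_surjective, Ideal.mk_ker]
  choose j hj using hstab
  refine ⟨j n, fun x hx => ?_⟩
  let L := fun i => K (j i) ⊔ maximalIdeal S ^ i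
  have hL : ∀ i, L i ≤ L (i + 1) ⊔ maximalIdeal S ^ i := fun i => by
    refine (hj i (max (j i) (j (i + 1))) (le_max_left _ _)).trans (sup_le ?_ le_sup_right)
    exact ((hanti (le_max_right _ _)).trans le_sup_left).trans le_sup_left
  have hstep : ∀ i (y : L (n + i)), ∃ z : L (n + (i + 1)), y.1 - z.1 ∈ maximalIdeal S ^ (n + i) := by
    intro i y
    obtain ⟨z, hz, w, hw, e⟩ := Submodule.mem_sup.1 (hL _ y.2)
    exact ⟨⟨z, hz⟩, by rw [← e, add_sub_cancel_left]; exact hw⟩
  choose next hnext using hstep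
  let seq : ∀ i, L (n + i) := fun i =>
    Nat.rec (motive := fun i => L (n + i)) ⟨x, Ideal.mem_sup_left hx⟩ next i
  have hcauchy : ∀ a b, a ≤ b → (seq a).1 - (seq b).1 ∈ maximalIdeal S ^ (n + a) := by
    intro a b hab
    induction b, hab using Nat.le_induction with
    | base => rw [sub_self]; exact zero_mem _
    | succ b hab ih =>
      rw [← sub_add_sub_cancel (seq a).1 (seq b).1]
      exact add_mem ih (Ideal.pow_le_pow_right (by omega) (hnext b (seq b)))
  obtain ⟨y, hy⟩ := IsPrecomplete.prec (I := maximalIdeal S) inferInstance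
    (f := fun i => (seq i).1) (fun {a b} hab => by
      rw [SModEq.sub_mem, smul_eq_mul, Ideal.mul_top]
      exact Ideal.pow_le_pow_right (Nat.le_add_left a n) (hcauchy a b hab))
  have hy' : ∀ i, (seq i).1 - y ∈ maximalIdeal S ^ i := fun i => by
    have := hy i
    rwa [SModEq.sub_mem, smul_eq_mul, Ideal.mul_top] at this
  have hy0 : y = 0 := by
    rw [← Ideal.mem_bot, ← hK, Ideal.mem_iInf]
    intro l
    obtain ⟨N, hN⟩ := hpow l
    have h1 : (seq N).1 ∈ K l := by
      have h2 : (seq N).1 ∈ K (max l (j (n + N))) ⊔ maximalIdeal S ^ (n + N) :=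
        hj (n + N) _ (le_max_right _ _) (seq N).2
      exact sup_le (hanti (le_max_left _ _))
        ((Ideal.pow_le_pow_right (Nat.le_add_left N n)).trans hN) h2
    rw [show y = (seq N).1 - ((seq N).1 - y) by abel]
    exact sub_mem h1 (hN (hy' N))
  have h1 := hy' n
  rw [hy0, sub_zero] at h1
  rw [show x = (x - (seq n).1) + (seq n).1 by abel]
  exact add_mem (hcauchy 0 n n.zero_le) h1

variable {Λ : Type u} {k : Type u} [CommRing Λ] [Field k] [Algebra Λ k]

/-- A map to an object kills a power of the kernel of the augmentation. -/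
theorem exists_pow_le_ker {P : Type u} [CommRing P] [Algebra Λ P] {π : P →ₐ[Λ] k} {A : Art Λ k}
    (φ : HomSet P π A) : ∃ N, RingHom.ker π ^ N ≤ RingHom.ker φ.1 := by
  obtain ⟨N, hN⟩ := ArtFunLib.maximalIdeal_nilpotent A
  refine ⟨N, ?_⟩
  have h : RingHom.ker π ≤ (maximalIdeal A).comap φ.1 := fun x hx => by
    rw [Ideal.mem_comap, Art.mem_maximalIdeal_iff]
    exact (DFunLike.congr_fun φ.2 x).trans hx
  refine (Ideal.pow_right_mono h N).trans ((Ideal.le_comap_pow φ.1 N).trans ?_)
  rw [hN]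
  exact le_of_eq rfl

/-- The limit of a compatible system of Artinian quotients of a Noetherian algebra. -/
theorem exists_cring_of_system {P : Type u} [CommRing P] [Algebra Λ P] [IsNoetherianRing P]
    (π : P →ₐ[Λ] k) (hπ : Function.Surjective π) (A : ℕ → Art Λ k) (f : ∀ n, A (n + 1) ⟶ A n)
    (q : ∀ n, HomSet P π (A n)) (hq : ∀ n, Function.Surjective (q n).1)
    (hc : ∀ n, HomSet.map (f n) (q (n + 1)) = q n) :
    ∃ (S : CRing Λ k) (ρ : ∀ n, HomSet S.carrier S.res (A n)),
      (∀ n, HomSet.map (f n) (ρ (n + 1)) = ρ n) ∧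
      (∀ n, Function.Surjective (ρ n).1) ∧
      (∀ a : ∀ n, A n, (∀ n, f n (a (n + 1)) = a n) → ∃! s : S.carrier, ∀ n, (ρ n).1 s = a n) ∧
      (∀ n, ∃ N, RingHom.ker (ρ N).1 ≤ maximalIdeal S.carrier ^ n) ∧
      (∀ n, ∃ N, maximalIdeal S.carrier ^ N ≤ RingHom.ker (ρ n).1) := by
  let M : Ideal P := RingHom.ker π
  have hM : M.IsMaximal := RingHom.ker_isMaximal_of_surjective π hπ
  have hMfg : M.FG := IsNoetherian.noetherian M
  let : Algebra Λ (AdicCompletion M P) := inferInstance
  let ι : P →+* AdicCompletion M P := algebraMap P (AdicCompletion M P)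
  let Mh : Ideal (AdicCompletion M P) := M.map ι
  have : IsNoetherianRing (AdicCompletion M P) := Matlis6.isNoetherianRing_adicCompletion M
  have : Mh.IsMaximal := AdicCompletion.isMaximal_map_of_le M M le_rfl hMfg
  have : IsAdicComplete Mh (AdicCompletion M P) := AdicCompletion.isAdicComplete_self M hMfg
  have : IsLocalRing (AdicCompletion M P) := isLocalRing_of_isAdicComplete_maximal Mh
  have happrox : ∀ (x : AdicCompletion M P) (N : ℕ), ∃ p, x - ι p ∈ Mh ^ N := by
    intro x N
    obtain ⟨p, hp⟩ := Submodule.Quotient.mk_surjective _ (x.val N)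
    refine ⟨p, ?_⟩
    rw [← Ideal.map_pow, ← Submodule.restrictScalars_mem P, ← Ideal.smul_top_eq_map,
      AdicCompletion.pow_smul_top_eq_ker_eval hMfg, LinearMap.mem_ker, map_sub, sub_eq_zero]
    exact hp.symm
  have hex : ∀ n, ∃ e : AdicCompletion M P →ₐ[Λ] A n, ∀ p, e (ι p) = (q n).1 p := by
    intro n
    obtain ⟨N, hN⟩ := exists_pow_le_ker (q n)
    let g : AdicCompletion M P →+* A n :=
      (Ideal.Quotient.lift (M ^ N) (q n).1.toRingHom fun a ha => hN ha).comp
        (AdicCompletion.evalₐ M N).toRingHom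
    have hg : ∀ p, g (ι p) = (q n).1 p := fun p => by
      simp only [g, ι, RingHom.comp_apply, AlgHom.toRingHom_eq_coe, RingHom.coe_coe, AlgHom.commutes]
      rfl
    exact ⟨{ g with commutes' := fun r => (hg (algebraMap Λ P r)).trans ((q n).1.commutes r) }, hg⟩
  choose e he using hex
  have hpow : ∀ n, ∃ N, Mh ^ N ≤ RingHom.ker (e n) := by
    intro n
    obtain ⟨N, hN⟩ := exists_pow_le_ker (q n)
    refine ⟨N, ?_⟩
    rw [← Ideal.map_pow, Ideal.map_le_iff_le_comap]
    intro p hp
    rw [Ideal.mem_comap, RingHom.mem_ker, he]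
    exact hN hp
  have hec : ∀ n x, f n (e (n + 1) x) = e n x := by
    intro n x
    obtain ⟨N₁, h₁⟩ := hpow n
    obtain ⟨N₂, h₂⟩ := hpow (n + 1)
    obtain ⟨p, hp⟩ := happrox x (N₁ + N₂)
    have a₁ := RingHom.mem_ker.1 (h₁ (Ideal.pow_le_pow_right (Nat.le_add_right N₁ N₂) hp))
    have a₂ := RingHom.mem_ker.1 (h₂ (Ideal.pow_le_pow_right (Nat.le_add_left N₂ N₁) hp))
    rw [map_sub, sub_eq_zero, he] at a₁ a₂
    rw [a₁, a₂]
    exact DFunLike.congr_fun (congrArg Subtype.val (hc n)) p
  let J : Ideal (AdicCompletion M P) := ⨅ n, RingHom.ker (e n)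
  have hJ : ∀ n, J ≤ RingHom.ker (e n) := iInf_le _
  have : Nontrivial (AdicCompletion M P ⧸ J) := Ideal.Quotient.nontrivial_iff.2 fun h => by
    have h1 : (1 : AdicCompletion M P) ∈ RingHom.ker (e 0) := hJ 0 (h ▸ Submodule.mem_top)
    rw [RingHom.mem_ker, map_one] at h1
    exact one_ne_zero h1
  have : IsLocalRing (AdicCompletion M P ⧸ J) :=
    IsLocalRing.of_surjective' (Ideal.Quotient.mk J) Ideal.Quotient.mk_surjective
  have hmax : maximalIdeal (AdicCompletion M P ⧸ J) = Mh.map (Ideal.Quotient.mk J) := by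
    refine (IsLocalRing.eq_maximalIdeal (Ideal.IsMaximal.map_of_surjective_of_ker_le
      Ideal.Quotient.mk_surjective ?_)).symm
    rw [Ideal.mk_ker, IsLocalRing.eq_maximalIdeal ‹Mh.IsMaximal›]
    exact IsLocalRing.le_maximalIdeal (Ideal.Quotient.nontrivial_iff.1 inferInstance)
  have hcompl : IsAdicComplete (maximalIdeal (AdicCompletion M P ⧸ J)) (AdicCompletion M P ⧸ J) := by
    rw [hmax, ← Ideal.Quotient.algebraMap_eq]
    exact (IsAdicComplete.map_algebraMap_iff _ _).2
      (AdicRing.isAdicComplete_of_finite (I := Mh) (M := AdicCompletion M P ⧸ J))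
  let res : (AdicCompletion M P ⧸ J) →ₐ[Λ] k :=
    Ideal.Quotient.liftₐ J ((A 0).res.comp (e 0)) fun a ha => by
      rw [AlgHom.comp_apply, RingHom.mem_ker.1 (hJ 0 ha), map_zero]
  have hres : Function.Surjective res := fun c => by
    obtain ⟨p, rfl⟩ := hπ c
    refine ⟨Ideal.Quotient.mk J (ι p), ?_⟩
    change (A 0).res (e 0 (ι p)) = π p
    rw [he]
    exact DFunLike.congr_fun (q 0).2 p
  have hres0 : ∀ n x, (A n).res (e n x) = (A 0).res (e 0 x) := by
    intro n x
    induction n with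
    | zero => rfl
    | succ n ih => exact (Art.res_app (f n) (e (n + 1) x)).symm.trans ((congrArg (A n).res (hec n x)).trans ih)
  let ρ : ∀ n, HomSet (AdicCompletion M P ⧸ J) res (A n) := fun n =>
    ⟨Ideal.Quotient.liftₐ J (e n) fun a ha => hJ n ha, AlgHom.ext fun x => by
      obtain ⟨x, rfl⟩ := Ideal.Quotient.mk_surjective x
      exact hres0 n x⟩
  let S : CRing Λ k :=
    { carrier := AdicCompletion M P ⧸ J
      res := res
      res_surjective := hres
      isAdicComplete := hcompl }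
  have hρs : ∀ n, Function.Surjective (ρ n).1 := fun n a => by
    obtain ⟨p, rfl⟩ := hq n a
    exact ⟨Ideal.Quotient.mk J (ι p), he n p⟩
  have hρc : ∀ n x, f n ((ρ (n + 1)).1 x) = (ρ n).1 x := fun n x => by
    obtain ⟨x, rfl⟩ := Ideal.Quotient.mk_surjective x
    exact hec n x
  have hanti : Antitone fun n => RingHom.ker (ρ n).1 := antitone_nat_of_succ_le fun n x hx => by
    rw [RingHom.mem_ker] at hx ⊢
    rw [← hρc, hx, map_zero]
  have hinf : ⨅ n, RingHom.ker (ρ n).1 = ⊥ := by
    rw [eq_bot_iff]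
    intro x hx
    obtain ⟨x, rfl⟩ := Ideal.Quotient.mk_surjective x
    rw [Ideal.mem_bot, Ideal.Quotient.eq_zero_iff_mem, Ideal.mem_iInf]
    exact fun n => (Ideal.mem_iInf.1 hx n :)
  have hρpow : ∀ n, ∃ N, maximalIdeal S.carrier ^ N ≤ RingHom.ker (ρ n).1 := fun n => by
    obtain ⟨N, hN⟩ := exists_pow_le_ker (ρ n)
    refine ⟨N, le_trans (Ideal.pow_right_mono (fun x hx => ?_) N) hN⟩
    exact (S.mem_maximalIdeal_iff x).1 hx
  have hcompl' : IsAdicComplete (maximalIdeal S.carrier) S.carrier := S.isAdicComplete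
  have hchev := fun n => chevalley (S := S.carrier) (fun n => RingHom.ker (ρ n).1) hanti hinf hρpow n
  refine ⟨S, ρ, fun n => Subtype.ext (AlgHom.ext (hρc n)), hρs, fun a ha => ?_, hchev, hρpow⟩
  choose N₀ hN₀ using hchev
  let N := fun i => max (N₀ i) i
  have hN : ∀ i, RingHom.ker (ρ (N i)).1 ≤ maximalIdeal S.carrier ^ i := fun i =>
    (hanti (le_max_left (N₀ i) i)).trans (hN₀ i)
  have hdown : ∀ {m n}, m ≤ n → ∀ s, (ρ n).1 s = a n → (ρ m).1 s = a m := by
    intro m n hmn s
    induction n, hmn using Nat.le_induction with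
    | base => exact id
    | succ n _ ih => exact fun h => ih (by rw [← hρc, h, ha])
  choose b hb using fun i => hρs (N i) (a (N i))
  obtain ⟨s, hs⟩ := IsPrecomplete.prec (I := maximalIdeal S.carrier) inferInstance
    (f := b) (fun {i l} hil => by
      rw [SModEq.sub_mem, smul_eq_mul, Ideal.mul_top]
      rcases le_total (N i) (N l) with h | h
      · refine hN i (RingHom.mem_ker.2 ?_)
        rw [map_sub, hb, hdown h _ (hb l), sub_self]
      · refine Ideal.pow_le_pow_right hil (hN l (RingHom.mem_ker.2 ?_))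
        rw [map_sub, hb, hdown h _ (hb i), sub_self])
  have key : ∀ n, (ρ n).1 s = a n := by
    intro n
    obtain ⟨E, hE⟩ := hρpow n
    have h1 := hs (max E n)
    rw [SModEq.sub_mem, smul_eq_mul, Ideal.mul_top] at h1
    have h2 := RingHom.mem_ker.1 (hE (Ideal.pow_le_pow_right (le_max_left E n) h1))
    rw [map_sub, sub_eq_zero] at h2
    rw [← h2]
    exact hdown ((le_max_right E n).trans (le_max_right _ _)) _ (hb _)
  refine ⟨s, key, fun t ht => ?_⟩
  rw [← sub_eq_zero, ← Ideal.mem_bot, ← hinf, Ideal.mem_iInf]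
  intro n
  rw [RingHom.mem_ker, map_sub, ht, key, sub_self]

end Groth.Agent.Schless
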