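import Groth.Agent.Schless.Construction
import Groth.Agent.ArtFunLib.Cotangent

/-!
# Hulls and pro-representability
-/

universe u v

open CategoryTheory IsLocalRing ArtFun

namespace Groth.Agent.Schless

open Groth.Agent.ArtFunLib

variable {Λ : Type u} {k : Type u} [CommRing Λ] [Field k] [Algebra Λ k]
variable {F : Art Λ k ⥤ Type v}

theorem injective_base_dual (hk : Subsingleton (Derivation Λ k k)) (x₀ : F.obj (Art.base Λ k)) :
    Function.Injective fun g : Art.base Λ k ⟶ Art.dual Λ k => F.map g x₀ :=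
  fun g g' _ => eq_of_subsingleton_derivation hk g g'

theorem subsingleton_derivation_of_surjective (h : Function.Surjective (algebraMap Λ k)) :
    Subsingleton (Derivation Λ k k) :=
  ⟨fun D D' => Derivation.ext fun a => by
    obtain ⟨r, rfl⟩ := h a
    rw [Derivation.map_algebraMap, Derivation.map_algebraMap]⟩

section Converse

variable {R : CRing Λ k} {ξ : Family R.carrier R.res F} (hξ : IsUniversal ξ)

include hξ in
theorem h0_of_universal : H0 F :=
  ⟨⟨ξ.app _ ⟨R.res, AlgHom.id_comp _⟩⟩, ⟨fun x y => by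
    obtain ⟨φ, rfl⟩ := (hξ _).2 x
    obtain ⟨ψ, rfl⟩ := (hξ _).2 y
    rw [HomSet.base_eq φ ψ]⟩⟩

include hξ in
theorem isLeftExact_of_universal : IsLeftExact F := by
  intro B A A' A'' p' p'' f' f'' h
  refine ⟨(cmp_injective_iff h).2 fun z z' e e' => ?_, (cmp_surjective_iff h).2 fun x' x'' e => ?_⟩
  · obtain ⟨φ, rfl⟩ := (hξ B).2 z
    obtain ⟨φ', rfl⟩ := (hξ B).2 z'
    rw [← ξ.natural, ← ξ.natural] at e e'
    refine congrArg _ (Subtype.ext (AlgHom.ext fun r => h.inj _ _ ?_ ?_))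
    · exact DFunLike.congr_fun (congrArg Subtype.val ((hξ _).1 e)) r
    · exact DFunLike.congr_fun (congrArg Subtype.val ((hξ _).1 e')) r
  · obtain ⟨φ', rfl⟩ := (hξ A').2 x'
    obtain ⟨φ'', rfl⟩ := (hξ A'').2 x''
    rw [← ξ.natural, ← ξ.natural] at e
    obtain ⟨φ, h₁, h₂⟩ := HomSet.exists_lift h φ' φ'' ((hξ A).1 e)
    exact ⟨ξ.app B φ, by rw [← ξ.natural, h₁], by rw [← ξ.natural, h₂]⟩

include hξ in
theorem injective_base_dual_of_universal (x₀ : F.obj (Art.base Λ k)) :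
    Function.Injective fun g : Art.base Λ k ⟶ Art.dual Λ k => F.map g x₀ := by
  intro g g' e
  obtain ⟨φ, rfl⟩ := (hξ _).2 x₀
  dsimp only at e
  rw [← ξ.natural, ← ξ.natural] at e
  refine hom_epi φ (fun c => ?_) ((hξ _).1 e)
  obtain ⟨r, hr⟩ := R.res_surjective c
  exact ⟨r, (DFunLike.congr_fun φ.2 r).trans hr⟩

variable [IsNoetherianRing Λ] [Module.Finite Λ k]

include hξ in
theorem hfin_of_surjective_universal [TangentStr F] : Hfin F := by
  obtain ⟨s, hs⟩ := exists_finite_determining R.res R.res_surjective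
  choose δ hδ using (hξ (Art.dual Λ k)).2
  let val : HomSet R.carrier R.res (Art.dual Λ k) → (s → k) := fun φ x =>
    TrivSqZeroExt.snd (R := k) (M := k) (φ.1 x.1)
  let L : TangentSpace F →ₗ[k] (s → k) :=
    { toFun := fun θ => val (δ θ.val)
      map_add' := fun θ θ' => by
        obtain ⟨Φ, h₁, h₂⟩ := HomSet.exists_lift Art.isFibreProd_dual2 (δ θ.val) (δ θ'.val)
          (HomSet.base_eq _ _)
        have : HomSet.map Art.plus Φ = δ (θ + θ').val := by
          refine (hξ _).1 ?_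
          rw [ξ.natural, hδ]
          refine (TangentStr.add_eq _).symm.trans ?_
          rw [← ξ.natural, ← ξ.natural, h₁, h₂, hδ, hδ]
          rfl
        rw [← this, ← h₁, ← h₂]
        rfl
      map_smul' := fun c θ => by
        have : HomSet.map (Art.scale c) (δ θ.val) = δ (c • θ).val := by
          refine (hξ _).1 ?_
          rw [ξ.natural, hδ, hδ]
          exact (TangentStr.smul_eq c _).symm
        rw [RingHom.id_apply, ← this]
        rfl }
  refine Module.Finite.of_injective L ((injective_iff_map_eq_zero L).2 fun θ hθ => ?_)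
  have hfst : ∀ r, ((δ θ.val).1 r : DualNumber k).fst = R.res r := hom_res (δ θ.val)
  let D : R.carrier →ₗ[Λ] k :=
    { toFun := fun r => ((δ θ.val).1 r : DualNumber k).snd
      map_add' := fun a b => by rw [map_add]; rfl
      map_smul' := fun c a => by rw [map_smul]; rfl }
  have hD : D = 0 := hs D (fun a b => by
    change ((δ θ.val).1 (a * b) : DualNumber k).snd = _
    rw [map_mul]
    refine (DualNumber.snd_mul _ _).trans ?_
    rw [hfst, hfst, mul_comm (((δ θ.val).1 a : DualNumber k).snd)]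
    rfl) fun x hx => congrFun hθ ⟨x, hx⟩
  let φ₀ : HomSet R.carrier R.res (Art.base Λ k) := ⟨R.res, AlgHom.id_comp _⟩
  have : δ θ.val = HomSet.map Art.baseToDual φ₀ := Subtype.ext (AlgHom.ext fun r =>
    TrivSqZeroExt.ext (hfst r) (DFunLike.congr_fun hD r))
  have hz : θ.val = F.map (zeroHom (Art.dual Λ k)) θ.val := by
    conv_lhs => rw [← hδ θ.val, this, ξ.natural]
    rw [zeroHom, ← ArtFunLib.map_map, base_eq (h0_of_universal hξ) (ξ.app _ φ₀)
      (F.map (Art.toBase _) θ.val)]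
  exact (congrArg TangentSpace.mk hz).trans (map_zeroHom θ.val)

end Converse

variable [IsNoetherianRing Λ] [Module.Finite Λ k]

theorem s1_of_hbar (h : Hbar F) : S1 F := fun _ _ _ _ _ _ _ _ hh hf =>
  cmp_surjective_of_small (fun _ _ _ _ _ _ _ _ h' hs => h _ _ _ _ h' hs) hh hf

theorem hasHull_of [TangentStr F] (h0 : H0 F) (h1 : S1 F) (h2 : Heps F) (h3 : Hfin F)
    (hinj : ∀ x₀ : F.obj (Art.base Λ k),
      Function.Injective fun g : Art.base Λ k ⟶ Art.dual Λ k => F.map g x₀) : HasHull F := by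
  obtain ⟨R, ξ, hv, hs, hi⟩ := exists_versal h0 h1 h2 h3
  exact ⟨⟨R, ξ, hv, hi hinj, hs⟩⟩

theorem universal_of_miniversal (h0 : H0 F) (h2 : Heps F) (h4 : HSq F) {R : CRing Λ k}
    {ξ : Family R.carrier R.res F} (hξ : IsMiniversal ξ) : IsUniversal ξ := by
  have hb : Function.Bijective (ξ.app (Art.base Λ k)) :=
    ⟨fun a b _ => HomSet.base_eq a b, fun x => ⟨⟨R.res, AlgHom.id_comp _⟩, base_eq h0 _ _⟩⟩
  intro A
  refine ⟨?_, versal_surjective hξ.1 hb.2 A⟩
  refine surj_induction (fun A B (_ : B ⟶ A) => Function.Injective (ξ.app A) → Function.Injective (ξ.app B))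
    ?_ ?_ ?_ (Art.toBase A) A.res_surjective hb.1
  · intro A B e he hA φ ψ h
    have := hA (a₁ := HomSet.map e φ) (a₂ := HomSet.map e ψ) (by rw [ξ.natural, ξ.natural, h])
    have h2 := congrArg (HomSet.map (inv e)) this
    rwa [HomSet.map_map, HomSet.map_map, IsIso.hom_inv_id, HomSet.map_id, HomSet.map_id] at h2
  · intro A B p hp hA φ ψ h
    have he : HomSet.map p φ = HomSet.map p ψ := hA (by rw [ξ.natural, ξ.natural, h])
    obtain ⟨τ, hτ⟩ := hp.2.2.1
    obtain ⟨D, p₁, p₂, hD⟩ := exists_fibreProd p p hp.1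
    obtain ⟨d, -, hd⟩ := exists_diff hp hτ hD
    obtain ⟨Φ, hΦ₁, hΦ₂⟩ := HomSet.exists_lift hD φ ψ he
    obtain ⟨Φ', hΦ'₁, hΦ'₂⟩ := HomSet.exists_lift hD φ φ rfl
    have hΦ : ξ.app D Φ = ξ.app D Φ' := (cmp_injective_iff hD).1 (h4 _ _ _ hD hp).1 _ _
      (by rw [← ξ.natural, ← ξ.natural, hΦ₁, hΦ'₁]) (by rw [← ξ.natural, ← ξ.natural, hΦ₂, hΦ'₂, h])
    have hd' : HomSet.map d Φ = HomSet.map d Φ' := hξ.2.1 (by rw [ξ.natural, ξ.natural, hΦ])
    have : Φ = Φ' := Subtype.ext (AlgHom.ext fun r => hd.inj _ _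
      (DFunLike.congr_fun (congrArg Subtype.val (hΦ₁.trans hΦ'₁.symm)) r)
      (DFunLike.congr_fun (congrArg Subtype.val hd') r))
    rw [← hΦ'₂, ← this, hΦ₂]
  · exact fun A B C p q _ _ hp hq h => hp (hq h)

theorem isProrepresentable_of [TangentStr F] (h0 : H0 F) (h1 : S1 F) (h2 : Heps F) (h3 : Hfin F)
    (h4 : HSq F) (hinj : ∀ x₀ : F.obj (Art.base Λ k),
      Function.Injective fun g : Art.base Λ k ⟶ Art.dual Λ k => F.map g x₀) : IsProrepresentable F := by
  obtain ⟨⟨R, ξ, hξ⟩⟩ := hasHull_of h0 h1 h2 h3 hinj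
  exact ⟨⟨R, ξ, universal_of_miniversal h0 h2 h4 hξ⟩⟩

end Groth.Agent.Schless
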