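import Groth.Agent.Schless.Presentation
import Groth.Agent.ArtFunLib.Formal

/-!
# Linear structure on the maps to the dual numbers and the first stage of a hull
-/

universe u v

open CategoryTheory IsLocalRing ArtFun

namespace Groth.Agent.Schless

open Groth.Agent.ArtFunLib

variable {Λ : Type u} {k : Type u} [CommRing Λ] [Field k] [Algebra Λ k]

section Linear

variable {F : Art Λ k ⥤ Type v} [TangentStr F]

theorem map_gadd {T : Art Λ k} (g g' : T ⟶ Art.dual Λ k) (z : F.obj T) :
    TangentSpace.mk (F.map (gadd g g') z) = TangentSpace.mk (F.map g z) + TangentSpace.mk (F.map g' z) := by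
  have h : TangentSpace.mk (F.map Art.pr₁ (F.map (pair g g') z)) +
      TangentSpace.mk (F.map Art.pr₂ (F.map (pair g g') z)) =
      TangentSpace.mk (F.map Art.plus (F.map (pair g g') z)) := TangentStr.add_eq _
  rw [ArtFunLib.map_map, ArtFunLib.map_map, ArtFunLib.map_map, pair_pr₁, pair_pr₂] at h
  exact h.symm

theorem map_zeroHom {T : Art Λ k} (z : F.obj T) : TangentSpace.mk (F.map (zeroHom T) z) = 0 := by
  have h := map_gadd (zeroHom T) (zeroHom T) z
  rw [show gadd (zeroHom T) (zeroHom T) = zeroHom T from hom_dual_ext fun t => by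
    rw [gadd_snd, zeroHom_snd, add_zero]] at h
  exact (left_eq_add.1 h :)

theorem map_scale {T : Art Λ k} (c : k) (g : T ⟶ Art.dual Λ k) (z : F.obj T) :
    TangentSpace.mk (F.map (g ≫ Art.scale c) z) = c • TangentSpace.mk (F.map g z) := by
  rw [← ArtFunLib.map_map]
  exact (TangentStr.smul_eq c _).symm

end Linear

/-- The inclusion of the field in a square-zero extension. -/
noncomputable def baseToTm (m : ℕ) : Art.base Λ k ⟶ tm Λ k m :=
  ⟨TrivSqZeroExt.inlAlgHom Λ k (Fin m → k), AlgHom.ext fun _ => rfl⟩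

/-- The morphism to the dual numbers attached to a derivation. -/
noncomputable def derHom (σ : Derivation Λ k k) : Art.base Λ k ⟶ Art.dual Λ k :=
  baseToTm 0 ≫ tmHom σ 0

theorem derHom_snd (σ : Derivation Λ k k) (a : (Art.base Λ k).carrier) :
    TrivSqZeroExt.snd (R := k) (M := k) ((derHom σ).toAlgHom a) = σ (show k from a) := by
  refine (tmHom_apply σ 0 _).trans ?_
  change σ a + ∑ l : Fin 0, _ = σ a
  simp

/-- Every morphism from the field to the dual numbers comes from a derivation. -/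
theorem exists_derHom (g : Art.base Λ k ⟶ Art.dual Λ k) : ∃ σ, derHom σ = g := by
  let h : k →ₐ[Λ] DualNumber k := g.toAlgHom
  have hf : ∀ a, (h a).fst = a := fun a => Art.res_app g a
  let L : k →ₗ[Λ] k :=
    { toFun := fun a => (h a).snd
      map_add' := fun a b => by rw [map_add]; rfl
      map_smul' := fun r a => by rw [map_smul]; rfl }
  refine ⟨Derivation.mk' L fun a b => ?_, hom_dual_ext fun t => derHom_snd _ t⟩
  change (h (a * b)).snd = a • (h b).snd + b • (h a).snd
  rw [map_mul, DualNumber.snd_mul, hf, hf]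
  simp only [smul_eq_mul]
  ring

theorem eq_of_subsingleton_derivation (hk : Subsingleton (Derivation Λ k k))
    (g g' : Art.base Λ k ⟶ Art.dual Λ k) : g = g' := by
  obtain ⟨σ, rfl⟩ := exists_derHom g
  obtain ⟨σ', rfl⟩ := exists_derHom g'
  rw [Subsingleton.elim σ σ']

/-- The coordinate projections. -/
noncomputable def tmProj {m : ℕ} (l : Fin m) : tm Λ k m ⟶ Art.dual Λ k :=
  ⟨(Art.tszeMap (LinearMap.proj l) : TrivSqZeroExt k (Fin m → k) →ₐ[Λ] DualNumber k),
    AlgHom.ext fun _ => rfl⟩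

theorem tmHom_eq {m : ℕ} (σ : Derivation Λ k k) (c : Fin m → k) :
    tmHom σ c = gadd (Art.toBase (tm Λ k m) ≫ derHom σ) (tmHom 0 c) := by
  refine hom_dual_ext fun t => ?_
  refine Eq.trans ?_ (gadd_snd _ _ t).symm
  refine (tmHom_apply σ c t).trans ?_
  refine congrArg₂ (· + ·) (derHom_snd σ ((Art.toBase (tm Λ k m)) t)).symm ?_
  refine Eq.trans ?_ (tmHom_apply 0 c t).symm
  exact (zero_add _).symm

theorem tmHom_add {m : ℕ} (c c' : Fin m → k) :
    tmHom (0 : Derivation Λ k k) (c + c') = gadd (tmHom 0 c) (tmHom 0 c') := by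
  refine hom_dual_ext fun t => ?_
  rw [gadd_snd, tmHom_apply, tmHom_apply, tmHom_apply]
  simp only [Derivation.zero_apply, zero_add, Pi.add_apply, mul_add, Finset.sum_add_distrib]

theorem tmHom_single {m : ℕ} (l : Fin m) (a : k) :
    tmHom (0 : Derivation Λ k k) (Pi.single l a) = tmProj l ≫ Art.scale a := by
  refine hom_dual_ext fun t => ?_
  rw [tmHom_apply, ArtFunLib.comp_apply', scale_snd]
  simp only [Derivation.zero_apply, zero_add, Pi.single_apply, mul_ite, mul_zero,
    Finset.sum_ite_eq', Finset.mem_univ, if_true]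
  exact mul_comm _ _

theorem isFibreProd_tm (m : ℕ) :
    ∃ (d : tm Λ k (m + 1) ⟶ tm Λ k m),
      Art.IsFibreProd d (tmProj (Fin.last m)) (Art.toBase _) (Art.toBase (Art.dual Λ k)) ∧
        ∀ l, d ≫ tmProj l = tmProj l.castSucc := by
  refine ⟨⟨(Art.tszeMap (LinearMap.funLeft k k Fin.castSucc) :
      TrivSqZeroExt k (Fin (m + 1) → k) →ₐ[Λ] TrivSqZeroExt k (Fin m → k)), AlgHom.ext fun _ => rfl⟩,
    ⟨base_subsingleton _ _, ?_, ?_⟩, fun l => hom_dual_ext fun _ => rfl⟩
  · intro (a : TrivSqZeroExt k (Fin (m + 1) → k)) (b : TrivSqZeroExt k (Fin (m + 1) → k)) h₁ h₂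
    refine TrivSqZeroExt.ext ?_ (funext fun i => ?_)
    · exact congrArg (TrivSqZeroExt.fst (R := k) (M := Fin m → k)) h₁
    · refine Fin.lastCases ?_ (fun i => ?_) i
      · exact congrArg (TrivSqZeroExt.snd (R := k) (M := k)) h₂
      · exact congrArg (fun z => TrivSqZeroExt.snd (R := k) (M := Fin m → k) z i) h₁
  · intro (a : TrivSqZeroExt k (Fin m → k)) (b : DualNumber k) e
    refine ⟨((a.fst, Fin.snoc a.snd b.snd) : TrivSqZeroExt k (Fin (m + 1) → k)), ?_, ?_⟩
    · exact TrivSqZeroExt.ext rfl (funext fun i => Fin.snoc_castSucc (α := fun _ => k) _ _ i)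
    · exact TrivSqZeroExt.ext e (Fin.snoc_last (α := fun _ => k) _ _)

variable (F : Art Λ k ⥤ Type v)

theorem exists_elt_tm (h0 : H0 F) (h2 : Heps F) {m : ℕ} (e : Fin m → F.obj (Art.dual Λ k)) :
    ∃ z : F.obj (tm Λ k m), ∀ l, F.map (tmProj l) z = e l := by
  induction m with
  | zero => exact ⟨F.map (baseToTm 0) h0.1.some, fun l => Fin.elim0 l⟩
  | succ m ih =>
    obtain ⟨z, hz⟩ := ih (fun l => e l.castSucc)
    obtain ⟨d, hd, hdl⟩ := isFibreProd_tm (Λ := Λ) (k := k) m
    obtain ⟨w, hw₁, hw₂⟩ := (cmp_surjective_iff hd).1 (h2 _ _ hd).2 z (e (Fin.last m)) (base_eq h0 _ _)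
    exact ⟨w, Fin.lastCases hw₂ fun l => by rw [← hdl, ← ArtFunLib.map_map, hw₁, hz]⟩

/-- The first stage: an element of `F(k ⊕ kᵐ)` spanning the tangent space minimally. -/
theorem exists_tangent_stage [TangentStr F] (h0 : H0 F) (h2 : Heps F) (h3 : Hfin F) :
    ∃ (m : ℕ) (z : F.obj (tm Λ k m)),
      (∀ θ : F.obj (Art.dual Λ k), ∃ (σ : Derivation Λ k k) (c : Fin m → k), F.map (tmHom σ c) z = θ) ∧
      ((∀ x₀ : F.obj (Art.base Λ k),
          Function.Injective fun g : Art.base Λ k ⟶ Art.dual Λ k => F.map g x₀) →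
        ∀ (σ σ' : Derivation Λ k k) (c c' : Fin m → k),
          F.map (tmHom σ c) z = F.map (tmHom σ' c') z → tmHom σ c = tmHom σ' c') := by
  obtain ⟨⟨x₀⟩, -⟩ := id h0
  let D : Submodule k (TangentSpace F) :=
    { carrier := Set.range fun g : Art.base Λ k ⟶ Art.dual Λ k => TangentSpace.mk (F.map g x₀)
      add_mem' := by
        rintro _ _ ⟨g, rfl⟩ ⟨g', rfl⟩
        exact ⟨gadd g g', map_gadd g g' x₀⟩
      zero_mem' := ⟨zeroHom _, map_zeroHom x₀⟩
      smul_mem' := by
        rintro c _ ⟨g, rfl⟩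
        exact ⟨g ≫ Art.scale c, map_scale c g x₀⟩ }
  obtain ⟨C, hC⟩ := Submodule.exists_isCompl D
  have : Module.Finite k (TangentSpace F) := h3
  let b := Module.finBasis k C
  obtain ⟨z, hz⟩ := exists_elt_tm F h0 h2 fun l => ((b l : TangentSpace F)).val
  have hlin : ∀ c : Fin (Module.finrank k C) → k, TangentSpace.mk (F.map (tmHom 0 c) z) =
      ((b.equivFun.symm c : C) : TangentSpace F) := by
    intro c
    let f₁ : (Fin (Module.finrank k C) → k) →+ TangentSpace F :=
      AddMonoidHom.mk' (fun c => TangentSpace.mk (F.map (tmHom 0 c) z)) fun c c' => by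
        rw [tmHom_add, map_gadd]
    let f₂ : (Fin (Module.finrank k C) → k) →+ TangentSpace F :=
      (C.subtype.comp b.equivFun.symm.toLinearMap).toAddMonoidHom
    refine DFunLike.congr_fun (?_ : f₁ = f₂) c
    refine AddMonoidHom.functions_ext _ f₁ f₂ fun l a => ?_
    change TangentSpace.mk (F.map (tmHom 0 (Pi.single l a)) z) =
      ((b.equivFun.symm (Pi.single l a) : C) : TangentSpace F)
    rw [tmHom_single, map_scale, hz, b.equivFun_symm_apply]
    simp [Pi.single_apply, TangentSpace.mk, TangentSpace.val]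
  have hdec : ∀ σ c, TangentSpace.mk (F.map (tmHom σ c) z) =
      TangentSpace.mk (F.map (derHom σ) x₀) + ((b.equivFun.symm c : C) : TangentSpace F) := by
    intro σ c
    rw [tmHom_eq, map_gadd, hlin, ← ArtFunLib.map_map, base_eq h0 (F.map (Art.toBase _) z) x₀]
  refine ⟨_, z, fun θ => ?_, fun hinj σ σ' c c' e => ?_⟩
  · have : TangentSpace.mk θ ∈ D ⊔ C := hC.sup_eq_top ▸ Submodule.mem_top
    obtain ⟨d, ⟨g, rfl⟩, w, hw, hsum⟩ := Submodule.mem_sup.1 this
    obtain ⟨σ, rfl⟩ := exists_derHom g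
    refine ⟨σ, b.equivFun ⟨w, hw⟩, ?_⟩
    change TangentSpace.mk _ = TangentSpace.mk θ
    rw [hdec, LinearEquiv.symm_apply_apply, ← hsum]
  · have e' : TangentSpace.mk (F.map (derHom σ) x₀) + ((b.equivFun.symm c : C) : TangentSpace F) =
        TangentSpace.mk (F.map (derHom σ') x₀) + ((b.equivFun.symm c' : C) : TangentSpace F) := by
      rw [← hdec, ← hdec]; exact congrArg TangentSpace.mk e
    have hd : TangentSpace.mk (F.map (derHom σ) x₀) - TangentSpace.mk (F.map (derHom σ') x₀) =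
        ((b.equivFun.symm c' : C) : TangentSpace F) - ((b.equivFun.symm c : C) : TangentSpace F) := by
      rw [sub_eq_sub_iff_add_eq_add, e', add_comm]
    have h0' : ((b.equivFun.symm c' : C) : TangentSpace F) - ((b.equivFun.symm c : C) : TangentSpace F) = 0 :=
      Submodule.disjoint_def.1 hC.disjoint _ (hd ▸ D.sub_mem ⟨_, rfl⟩ ⟨_, rfl⟩)
        (C.sub_mem (b.equivFun.symm c').2 (b.equivFun.symm c).2)
    have hc : c = c' := b.equivFun.symm.injective (Subtype.ext (sub_eq_zero.1 h0').symm)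
    rw [h0', sub_eq_zero] at hd
    rw [hc, tmHom_eq σ, tmHom_eq σ', hinj x₀ hd]

end Groth.Agent.Schless
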