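import Groth.Agent.Schless.Family
import Groth.Agent.Schless.Tangent
import Groth.Agent.ArtFunLib.Torsor
import Groth.Agent.S12729

/-!
# Schlessinger's construction

A functor of Artin rings with (S1), (S2) and finite-dimensional tangent space has a versal family,
which is bijective on the tangent space as soon as `σ ↦ F(σ)(x₀)` is injective on `k → k[ε]`.
-/

universe u v

open CategoryTheory IsLocalRing ArtFun

namespace Groth.Agent.Schless

open Groth.Agent.ArtFunLib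

variable {Λ : Type u} {k : Type u} [CommRing Λ] [Field k] [Algebra Λ k]
variable {P : Type u} [CommRing P] [Algebra Λ P]

/-- A stage of the construction. -/
structure Stage (π : P →ₐ[Λ] k) (F : Art Λ k ⥤ Type v) where
  /-- The object. -/
  obj : Art Λ k
  /-- The presentation map. -/
  hom : HomSet P π obj
  surj : Function.Surjective hom.1
  /-- The element. -/
  elt : F.obj obj

variable {π : P →ₐ[Λ] k} {F : Art Λ k ⥤ Type v}
variable [IsNoetherianRing Λ] [Module.Finite Λ k] [IsNoetherianRing P]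

/-- The next stage, with the lifting property for small extensions. -/
theorem exists_next (hπ : Function.Surjective π) (h1 : S1 F)
    (hsm : ∀ ⦃B A : Art Λ k⦄ (p : B ⟶ A), Art.IsSmallExt p → ∀ φ : HomSet P π A,
      ∃ ψ : HomSet P π B, HomSet.map p ψ = φ) (s : Stage π F) :
    ∃ (t : Stage π F) (f : t.obj ⟶ s.obj), HomSet.map f t.hom = s.hom ∧ F.map f t.elt = s.elt ∧
      ∀ ⦃B A : Art Λ k⦄ (p : B ⟶ A), Art.IsSmallExt p → ∀ (g : s.obj ⟶ A) (y : F.obj B),
        F.map p y = F.map g s.elt → ∃ g' : t.obj ⟶ B, g' ≫ p = f ≫ g := by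
  let K : Ideal P := RingHom.ker π * RingHom.ker s.hom.1
  obtain ⟨N, hN⟩ := exists_pow_le_ker s.hom
  obtain ⟨E, qE, hqE, hkerE⟩ := exists_quotObj hπ K Ideal.mul_le_left (N + 1) (by
    rw [pow_succ']; exact Ideal.mul_mono_right hN)
  obtain ⟨e, he⟩ := exists_factor_of_ker qE hqE s.hom (hkerE.le.trans Ideal.mul_le_right)
  have hsurj : Function.Surjective e := fun a => by
    obtain ⟨x, rfl⟩ := s.surj a
    exact ⟨qE.1 x, DFunLike.congr_fun (congrArg Subtype.val he) x⟩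
  have hsemi : Art.IsSemismallExt e := by
    refine ⟨hsurj, eq_bot_iff.2 (Ideal.mul_le.2 fun a ha b hb => ?_)⟩
    obtain ⟨a, rfl⟩ := hqE a
    obtain ⟨b, rfl⟩ := hqE b
    rw [Art.mem_maximalIdeal_iff, hom_res] at ha
    rw [Ideal.mem_bot, ← map_mul, ← RingHom.mem_ker, hkerE]
    refine Ideal.mul_mem_mul (RingHom.mem_ker.2 ha) (RingHom.mem_ker.2 ?_)
    rw [← he, hom_apply_map]
    exact RingHom.mem_ker.1 hb
  obtain ⟨J₀, hJ₀, hJ₀', ⟨x', hx'⟩, hmin⟩ := S12729.result h1 e hsemi s.elt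
  let t : Stage π F :=
    { obj := Art.quot E J₀ hJ₀'
      hom := HomSet.map (Art.quotMk E J₀ hJ₀') qE
      surj := (Art.quotMk_surjective E J₀ hJ₀').comp hqE
      elt := x' }
  refine ⟨t, Art.quotFactor hJ₀' e hJ₀, ?_, hx', ?_⟩
  · change HomSet.map _ (HomSet.map _ qE) = _
    rw [HomSet.map_map, Art.quotMk_quotFactor, he]
  intro B A p hp g y hy
  obtain ⟨ψ, hψ⟩ := hsm p hp (HomSet.map g s.hom)
  have hψ' : ∀ x, p (ψ.1 x) = g (s.hom.1 x) := fun x =>
    DFunLike.congr_fun (congrArg Subtype.val hψ) x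
  obtain ⟨e₀, he₀⟩ := exists_factor_of_ker qE hqE ψ (hkerE.le.trans (Ideal.mul_le.2 fun a ha b hb => by
    rw [RingHom.mem_ker, map_mul]
    exact mul_eq_zero_of_semismall hp.isSemismallExt (hom_mem_max ψ ha)
      (by rw [hψ', RingHom.mem_ker.1 hb, map_zero])))
  have hpe : e₀ ≫ p = e ≫ g := hom_epi qE hqE (by rw [← HomSet.map_map, ← HomSet.map_map, he₀, hψ, he])
  suffices hJ : J₀ ≤ RingHom.ker e₀.toAlgHom by
    refine ⟨Art.quotFactor hJ₀' e₀ hJ, hom_ext_apply fun z => ?_⟩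
    obtain ⟨z, rfl⟩ := Art.quotMk_surjective E J₀ hJ₀' z
    exact DFunLike.congr_fun (congrArg Art.Hom.toAlgHom hpe) z
  by_cases hcase : RingHom.ker e.toAlgHom ≤ RingHom.ker e₀.toAlgHom
  · exact hJ₀.trans hcase
  obtain ⟨b₀, hb₀, hb₀'⟩ := SetLike.not_le_iff_exists.1 hcase
  obtain ⟨C, c₁, c₂, hC⟩ := exists_fibreProd g p hp.1
  obtain ⟨G, hG₁, hG₂⟩ := IsFibreProd.exists_lift hC e e₀ hpe.symm
  obtain ⟨τ, hτ⟩ : ∃ τ, RingHom.ker p.toAlgHom = Ideal.span {τ} := ⟨_, hp.2.2.1.principal.choose_spec⟩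
  have hτ0 : p τ = 0 := RingHom.mem_ker.1 (hτ ▸ Ideal.mem_span_singleton_self τ)
  have hpb₀ : p (e₀ b₀) = 0 := by
    rw [← ArtFunLib.comp_apply', hpe, ArtFunLib.comp_apply', RingHom.mem_ker.1 hb₀, map_zero]
  obtain ⟨u, hu⟩ : ∃ u, u * τ = e₀ b₀ :=
    Ideal.mem_span_singleton'.1 (hτ ▸ RingHom.mem_ker.2 hpb₀)
  have hune : B.res u ≠ 0 := fun h0 => hb₀' (RingHom.mem_ker.2 (by
    rw [← hu]
    exact mul_eq_zero_of_semismall hp.isSemismallExt ((B.mem_maximalIdeal_iff u).2 h0) hτ0))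
  have hGsurj : Function.Surjective G := by
    intro c
    obtain ⟨a, ha⟩ := hsurj (c₁ c)
    have hd : c₂ c - e₀ a ∈ RingHom.ker p.toAlgHom := by
      rw [RingHom.mem_ker, map_sub, sub_eq_zero, ← ArtFunLib.comp_apply' e₀ p, hpe,
        ArtFunLib.comp_apply', ha]
      exact (hC.w_apply c).symm
    obtain ⟨w, hw⟩ : ∃ w, w * τ = c₂ c - e₀ a := Ideal.mem_span_singleton'.1 (hτ ▸ hd)
    obtain ⟨a', ha'⟩ := E.res_surjective (B.res w / B.res u)
    refine ⟨a + a' * b₀, hC.inj _ _ ?_ ?_⟩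
    · rw [← ArtFunLib.comp_apply' G c₁, hG₁, map_add, map_mul, RingHom.mem_ker.1 hb₀, mul_zero,
        add_zero, ha]
    · rw [← ArtFunLib.comp_apply' G c₂, hG₂, map_add, map_mul, ← hu, ← mul_assoc]
      have : e₀ a' * u * τ = w * τ := by
        rw [← sub_eq_zero, ← sub_mul]
        refine mul_eq_zero_of_semismall hp.isSemismallExt ((B.mem_maximalIdeal_iff _).2 ?_) hτ0
        rw [map_sub, map_mul, Art.res_app e₀, ha', div_mul_cancel₀ _ hune, sub_self]
      rw [this, hw, add_sub_cancel]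
  obtain ⟨z, hz, -⟩ := (cmp_surjective_iff hC).1 (h1 _ _ _ _ hC hp.1) s.elt y hy.symm
  have hJe : RingHom.ker G.toAlgHom ≤ RingHom.ker e.toAlgHom := fun a ha => RingHom.mem_ker.2 (by
    rw [← hG₁, ArtFunLib.comp_apply', RingHom.mem_ker.1 ha, map_zero])
  have hJm : RingHom.ker G.toAlgHom ≤ maximalIdeal E := ker_le_max G
  have : IsIso (Art.quotFactor hJm G le_rfl) := isIso_of_bijective _ ⟨fun a b hab => by
      obtain ⟨a, rfl⟩ := Art.quotMk_surjective E _ hJm a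
      obtain ⟨b, rfl⟩ := Art.quotMk_surjective E _ hJm b
      refine (quotMk_eq_iff hJm a b).2 (RingHom.mem_ker.2 ?_)
      rw [map_sub, sub_eq_zero]
      exact hab, quotFactor_surjective _ _ _ hGsurj⟩
  have hle := hmin _ hJe hJm ⟨F.map (inv (Art.quotFactor hJm G le_rfl)) z, by
    have : Art.quotFactor hJm e hJe = Art.quotFactor hJm G le_rfl ≫ c₁ := hom_ext_apply fun w => by
      obtain ⟨w, rfl⟩ := Art.quotMk_surjective E _ hJm w
      exact (DFunLike.congr_fun (congrArg Art.Hom.toAlgHom hG₁) w).symm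
    rw [ArtFunLib.map_map, this, IsIso.inv_hom_id_assoc, hz]⟩
  exact hle.trans fun a ha => RingHom.mem_ker.2 (by
    rw [← hG₂, ArtFunLib.comp_apply', RingHom.mem_ker.1 ha, map_zero])

/-- **Schlessinger's theorem**, existence part. -/
theorem exists_versal [TangentStr F] (h0 : H0 F) (h1 : S1 F) (h2 : Heps F) (h3 : Hfin F) :
    ∃ (R : CRing Λ k) (ξ : Family R.carrier R.res F), IsVersal ξ ∧
      Function.Surjective (ξ.app (Art.dual Λ k)) ∧
      ((∀ x₀ : F.obj (Art.base Λ k),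
          Function.Injective fun g : Art.base Λ k ⟶ Art.dual Λ k => F.map g x₀) →
        Function.Injective (ξ.app (Art.dual Λ k))) := by
  obtain ⟨m, z, hzs, hzi⟩ := exists_tangent_stage F h0 h2 h3
  obtain ⟨P, _, _, _, π, hπ, hsm, π₁, hπ₁, hπ₁d⟩ := exists_presentation (Λ := Λ) (k := k) m
  choose next f hfh hfx hflift using exists_next (F := F) hπ h1 hsm
  let s : ℕ → Stage π F := fun n => Nat.rec ⟨_, π₁, hπ₁, z⟩ (fun _ t => next t) n
  have hc : ∀ n, HomSet.map (f (s n)) (s (n + 1)).hom = (s n).hom := fun n => hfh (s n)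
  obtain ⟨R, ρ, hρc, hρs, -, hcof, -⟩ := exists_cring_of_system π hπ (fun n => (s n).obj)
    (fun n => f (s n)) (fun n => (s n).hom) (fun n => (s n).surj) hc
  have hfac := exists_factor_system hρs hcof
  obtain ⟨ξ, hξ⟩ := exists_family (q := ρ) (x := fun n => (s n).elt) hρc hρs (fun n => hfx (s n)) hfac
  let T : ∀ n, (s n).obj ⟶ tm Λ k m :=
    fun n => Nat.rec (motive := fun n => (s n).obj ⟶ tm Λ k m) (𝟙 _) (fun n t => f (s n) ≫ t) n
  have hT : ∀ n, HomSet.map (T n) (ρ n) = ρ 0 ∧ HomSet.map (T n) (s n).hom = (s 0).hom := by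
    intro n
    induction n with
    | zero => exact ⟨HomSet.map_id _, HomSet.map_id _⟩
    | succ n ih =>
      constructor
      · change HomSet.map (f (s n) ≫ T n) _ = _
        rw [← HomSet.map_map, hρc, ih.1]
      · change HomSet.map (f (s n) ≫ T n) _ = _
        rw [← HomSet.map_map, hc, ih.2]
  have hstage : ∀ δ : HomSet R.carrier R.res (Art.dual Λ k), ∃ (σ : Derivation Λ k k) (c : Fin m → k),
      δ = HomSet.map (tmHom σ c) (ρ 0) := by
    intro δ
    obtain ⟨n, g, rfl⟩ := hfac _ δ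
    obtain ⟨σ, c, hσ⟩ := hπ₁d (HomSet.map g (s n).hom)
    refine ⟨σ, c, ?_⟩
    have hg : g = T n ≫ tmHom σ c := hom_epi _ (s n).surj (by
      rw [← HomSet.map_map, (hT n).2, ← hσ]; rfl)
    rw [hg, ← HomSet.map_map, (hT n).1]
  have hbase : ∀ φ ψ : HomSet R.carrier R.res (Art.base Λ k), φ = ψ := HomSet.base_eq
  have hsurj : Function.Surjective (ξ.app (Art.dual Λ k)) := fun θ => by
    obtain ⟨σ, c, h⟩ := hzs θ
    exact ⟨HomSet.map (tmHom σ c) (ρ 0), (hξ 0 _ _).trans h⟩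
  refine ⟨R, ξ, ?_, hsurj, fun hinj δ δ' e => ?_⟩
  · -- versality: small extensions suffice
    have hsmall : ∀ ⦃B A : Art Λ k⦄ (p : B ⟶ A), Art.IsSmallExt p →
        ∀ (φ : HomSet R.carrier R.res A) (y : F.obj B), F.map p y = ξ.app A φ →
          ∃ ψ : HomSet R.carrier R.res B, HomSet.map p ψ = φ ∧ ξ.app B ψ = y := by
      intro B A p hp φ y hy
      obtain ⟨n, g, rfl⟩ := hfac A φ
      rw [hξ] at hy
      obtain ⟨g', hg'⟩ := hflift (s n) p hp g y hy
      obtain ⟨ψ₀, hψ₀⟩ : ∃ ψ₀ : HomSet R.carrier R.res B, HomSet.map p ψ₀ = HomSet.map g (ρ n) :=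
        ⟨HomSet.map g' (ρ (n + 1)), by
          rw [HomSet.map_map, show g' ≫ p = f (s n) ≫ g from hg', ← HomSet.map_map, hρc]⟩
      have hy' : F.map p (ξ.app B ψ₀) = F.map p y := by rw [← ξ.natural, hψ₀, hξ, hy]
      obtain ⟨τ, hτ⟩ := hp.2.2.1
      obtain ⟨D, p₁, p₂, hD⟩ := exists_fibreProd p p hp.1
      obtain ⟨d, -, hd⟩ := exists_diff hp hτ hD
      obtain ⟨w, hw₁, hw₂⟩ := (cmp_surjective_iff hD).1 (h1 _ _ _ _ hD hp.1) _ y hy'
      obtain ⟨δ, hδ⟩ := hsurj (F.map d w)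
      obtain ⟨Φ, hΦ₁, hΦ₂⟩ := HomSet.exists_lift hd ψ₀ δ (hbase _ _)
      have hΦ : ξ.app D Φ = w := (cmp_injective_iff hd).1 (h2 _ _ hd).1 _ _
        (by rw [← ξ.natural, hΦ₁, hw₁]) (by rw [← ξ.natural, hΦ₂, hδ])
      refine ⟨HomSet.map p₂ Φ, ?_, by rw [ξ.natural, hΦ, hw₂]⟩
      rw [HomSet.map_map, ← hD.w, ← HomSet.map_map, hΦ₁, hψ₀]
    intro B A μ hμ
    refine surj_induction (fun A B (μ : B ⟶ A) => ∀ (φ : HomSet R.carrier R.res A) (y : F.obj B),
      F.map μ y = ξ.app A φ → ∃ ψ : HomSet R.carrier R.res B, HomSet.map μ ψ = φ ∧ ξ.app B ψ = y)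
      ?_ (fun A B p hp => hsmall p hp) ?_ μ hμ
    · intro A B e he φ y hy
      refine ⟨HomSet.map (inv e) φ, ?_, ?_⟩
      · rw [HomSet.map_map, IsIso.inv_hom_id, HomSet.map_id]
      · rw [ξ.natural, ← hy, map_inv_map]
    · intro A B C p q _ _ hp hq φ y hy
      obtain ⟨ψ, h₁, h₂⟩ := hq φ (F.map p y) (by rw [ArtFunLib.map_map, hy])
      obtain ⟨χ, h₃, h₄⟩ := hp ψ y h₂.symm
      exact ⟨χ, by rw [← HomSet.map_map, h₃, h₁], h₄⟩
  · obtain ⟨σ, c, rfl⟩ := hstage δ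
    obtain ⟨σ', c', rfl⟩ := hstage δ'
    replace e := ((hξ 0 _ (tmHom σ c)).symm.trans e).trans (hξ 0 _ (tmHom σ' c'))
    exact congrArg (fun g : (s 0).obj ⟶ Art.dual Λ k => HomSet.map g (ρ 0)) (hzi hinj σ σ' c c' e)

end Groth.Agent.Schless
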