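import Groth.Agent.ArtFunLib.Formal
import Groth.Agent.Schless.Limit

/-!
# Factorisation through quotients and families attached to compatible systems
-/

universe u v

open CategoryTheory IsLocalRing ArtFun

namespace Groth.Agent.Schless

open Groth.Agent.ArtFunLib

variable {Λ : Type u} {k : Type u} [CommRing Λ] [Field k] [Algebra Λ k]
variable {P : Type u} [CommRing P] [Algebra Λ P] {π : P →ₐ[Λ] k}

theorem hom_res {A : Art Λ k} (φ : HomSet P π A) (x : P) : A.res (φ.1 x) = π x :=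
  DFunLike.congr_fun φ.2 x

theorem hom_apply_map {A B : Art Λ k} (g : A ⟶ B) (φ : HomSet P π A) (x : P) :
    (HomSet.map g φ).1 x = g (φ.1 x) := rfl

theorem hom_mem_max {A : Art Λ k} (φ : HomSet P π A) {x : P} (hx : π x = 0) :
    φ.1 x ∈ maximalIdeal A := by
  rw [Art.mem_maximalIdeal_iff, hom_res, hx]

theorem ker_le {A : Art Λ k} (φ : HomSet P π A) : RingHom.ker φ.1 ≤ RingHom.ker π := fun x hx => by
  rw [RingHom.mem_ker] at hx ⊢
  rw [← hom_res φ, hx, map_zero]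

theorem hom_epi {A B : Art Λ k} (φ : HomSet P π A) (hφ : Function.Surjective φ.1) {g g' : A ⟶ B}
    (h : HomSet.map g φ = HomSet.map g' φ) : g = g' := hom_ext_apply fun a => by
  obtain ⟨x, rfl⟩ := hφ a
  exact DFunLike.congr_fun (congrArg Subtype.val h) x

theorem exists_factor_of_ker {A B : Art Λ k} (φ : HomSet P π A) (hφ : Function.Surjective φ.1)
    (ψ : HomSet P π B) (h : RingHom.ker φ.1 ≤ RingHom.ker ψ.1) :
    ∃ g : A ⟶ B, HomSet.map g φ = ψ := by
  let G : A →ₐ[Λ] B :=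
    (Ideal.Quotient.liftₐ (RingHom.ker φ.1) ψ.1 fun a ha => h ha).comp
      (Ideal.quotientKerAlgEquivOfSurjective hφ).symm.toAlgHom
  have hG : ∀ x, G (φ.1 x) = ψ.1 x := fun x => by
    have : (Ideal.quotientKerAlgEquivOfSurjective hφ).symm (φ.1 x) = Ideal.Quotient.mk _ x := by
      rw [AlgEquiv.symm_apply_eq]; rfl
    change Ideal.Quotient.liftₐ _ ψ.1 (fun a ha => h ha) ((Ideal.quotientKerAlgEquivOfSurjective hφ).symm (φ.1 x)) = _
    rw [this]; rfl
  refine ⟨⟨G, AlgHom.ext fun a => ?_⟩, Subtype.ext (AlgHom.ext hG)⟩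
  obtain ⟨x, rfl⟩ := hφ a
  change B.res (G (φ.1 x)) = A.res (φ.1 x)
  rw [hG, hom_res, hom_res]

/-- The quotient by an open ideal as an object. -/
theorem exists_quotObj [IsNoetherianRing P] (hπ : Function.Surjective π) (K : Ideal P)
    (hK : K ≤ RingHom.ker π) (N : ℕ) (hN : RingHom.ker π ^ N ≤ K) :
    ∃ (E : Art Λ k) (φ : HomSet P π E), Function.Surjective φ.1 ∧ RingHom.ker φ.1 = K := by
  have hM : (RingHom.ker π).IsMaximal := RingHom.ker_isMaximal_of_surjective π hπ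
  have : Nontrivial (P ⧸ K) := Ideal.Quotient.nontrivial_iff.2 fun h =>
    hM.ne_top (top_le_iff.1 (h ▸ hK))
  have hmax : ∀ Q : Ideal (P ⧸ K), Q.IsPrime → Q = (RingHom.ker π).map (Ideal.Quotient.mk K) := by
    intro Q hQ
    have hle : RingHom.ker π ≤ Q.comap (Ideal.Quotient.mk K) :=
      (Ideal.IsPrime.comap _).le_of_pow_le (hN.trans fun x hx => by
        rw [Ideal.mem_comap, Ideal.Quotient.eq_zero_iff_mem.2 hx]; exact zero_mem _)
    rw [hM.eq_of_le (Ideal.IsPrime.comap _).ne_top hle,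
      Ideal.map_comap_of_surjective _ Ideal.Quotient.mk_surjective]
  have : IsLocalRing (P ⧸ K) := IsLocalRing.of_unique_max_ideal
    ⟨_, Ideal.IsMaximal.map_of_surjective_of_ker_le Ideal.Quotient.mk_surjective
      (by rw [Ideal.mk_ker]; exact hK), fun Q hQ => hmax Q hQ.isPrime⟩
  have : IsArtinianRing (P ⧸ K) := by
    rw [isArtinianRing_iff_isNilpotent_maximalIdeal]
    refine ⟨N, ?_⟩
    rw [hmax _ (maximalIdeal.isMaximal (P ⧸ K)).isPrime, ← Ideal.map_pow, Ideal.zero_eq_bot,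
      Ideal.map_eq_bot_iff_le_ker, Ideal.mk_ker]
    exact hN
  let res : (P ⧸ K) →ₐ[Λ] k := Ideal.Quotient.liftₐ K π fun a ha => hK ha
  exact ⟨Art.of (P ⧸ K) res (fun c => by obtain ⟨x, rfl⟩ := hπ c; exact ⟨Ideal.Quotient.mk K x, rfl⟩),
    ⟨Ideal.Quotient.mkₐ Λ K, Ideal.Quotient.liftₐ_comp _ _ _⟩, Ideal.Quotient.mk_surjective,
    Ideal.mk_ker⟩

section System

variable {A : ℕ → Art Λ k} {f : ∀ n, A (n + 1) ⟶ A n} {q : ∀ n, HomSet P π (A n)}
variable {F : Art Λ k ⥤ Type v} {x : ∀ n, F.obj (A n)}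

theorem exists_transition (hc : ∀ n, HomSet.map (f n) (q (n + 1)) = q n)
    (hx : ∀ n, F.map (f n) (x (n + 1)) = x n) {n m : ℕ} (h : n ≤ m) :
    ∃ t : A m ⟶ A n, HomSet.map t (q m) = q n ∧ F.map t (x m) = x n := by
  induction m, h using Nat.le_induction with
  | base => exact ⟨𝟙 _, HomSet.map_id _, map_id' F _⟩
  | succ m _ ih =>
    obtain ⟨t, h₁, h₂⟩ := ih
    exact ⟨f m ≫ t, by rw [← HomSet.map_map, hc, h₁], by rw [← ArtFunLib.map_map, hx, h₂]⟩

/-- A compatible system with cofinal kernels gives a family. -/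
theorem exists_family (hc : ∀ n, HomSet.map (f n) (q (n + 1)) = q n)
    (hq : ∀ n, Function.Surjective (q n).1) (hx : ∀ n, F.map (f n) (x (n + 1)) = x n)
    (hfac : ∀ (B : Art Λ k) (u : HomSet P π B), ∃ (n : ℕ) (g : A n ⟶ B), HomSet.map g (q n) = u) :
    ∃ ξ : Family P π F, ∀ n (B : Art Λ k) (g : A n ⟶ B), ξ.app B (HomSet.map g (q n)) = F.map g (x n) := by
  choose N g hg using hfac
  have key : ∀ n (B : Art Λ k) (h : A n ⟶ B),
      F.map (g B (HomSet.map h (q n))) (x (N B (HomSet.map h (q n)))) = F.map h (x n) := by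
    intro n B h
    obtain ⟨t₁, a₁, b₁⟩ := exists_transition hc hx (le_max_left n (N B (HomSet.map h (q n))))
    obtain ⟨t₂, a₂, b₂⟩ := exists_transition hc hx (le_max_right n (N B (HomSet.map h (q n))))
    have e : t₂ ≫ g B (HomSet.map h (q n)) = t₁ ≫ h := hom_epi _ (hq _) (by
      rw [← HomSet.map_map, ← HomSet.map_map, a₁, a₂, hg])
    rw [← b₁, ← b₂, ArtFunLib.map_map, ArtFunLib.map_map, e]
  refine ⟨⟨fun B u => F.map (g B u) (x (N B u)), fun {B C} h u => ?_⟩, key⟩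
  conv_lhs => rw [← hg B u, HomSet.map_map]
  rw [key, ArtFunLib.map_map]

end System

/-- Kernels containing a power of the maximal ideal give factorisations. -/
theorem exists_factor_system {S : CRing Λ k} {A : ℕ → Art Λ k}
    {ρ : ∀ n, HomSet S.carrier S.res (A n)} (hρ : ∀ n, Function.Surjective (ρ n).1)
    (hcof : ∀ n, ∃ N, RingHom.ker (ρ N).1 ≤ maximalIdeal S.carrier ^ n)
    (B : Art Λ k) (u : HomSet S.carrier S.res B) : ∃ (n : ℕ) (g : A n ⟶ B), HomSet.map g (ρ n) = u := by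
  obtain ⟨N, hN⟩ := exists_pow_le_ker u
  obtain ⟨n, hn⟩ := hcof N
  exact ⟨n, exists_factor_of_ker _ (hρ n) u (hn.trans ((Ideal.pow_right_mono (fun x hx =>
    (S.mem_maximalIdeal_iff x).1 hx) N).trans hN))⟩

end Groth.Agent.Schless
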