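import Groth.Agent.ArtFunLib.Tangent
import Mathlib.RingTheory.Kaehler.Basic
import Mathlib.RingTheory.Unramified.Field
import Mathlib.FieldTheory.Separable
import Mathlib.LinearAlgebra.Basis.VectorSpace
import Mathlib.RingTheory.Polynomial.Basic
import Mathlib.Algebra.Polynomial.Identities
import Mathlib.RingTheory.FiniteType

/-!
# A formally smooth presentation of the residue field

For a finite field extension `k` of the residue of `Λ`, a Noetherian `Λ`-algebra `P → k`, formally
smooth for small extensions, whose derivations to `k` are `Der_Λ(k, k) × kᵐ`.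
-/

universe u v

open CategoryTheory IsLocalRing ArtFun
open scoped Polynomial

namespace Groth.Agent.Schless

open Groth.Agent.ArtFunLib

/-- Elements of a finite field extension with trivial differentials have simple roots polynomials. -/
theorem exists_simple_root {Rb : Type u} [CommRing Rb] {k : Type u} [Field k] [Algebra Rb k]
    [Module.Finite Rb k] [Subsingleton Ω[k⁄Rb]] (α : k) :
    ∃ f : Rb[X], Polynomial.aeval α f = 0 ∧ Polynomial.aeval α (Polynomial.derivative f) ≠ 0 := by
  have hm := Algebra.ker_algebraMap_isMaximal_of_isIntegral Rb k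
  let : Field (Rb ⧸ RingHom.ker (algebraMap Rb k)) := Ideal.Quotient.field _
  let : Algebra (Rb ⧸ RingHom.ker (algebraMap Rb k)) k :=
    (Ideal.Quotient.lift _ (algebraMap Rb k) (fun a ha => ha)).toAlgebra
  have : IsScalarTower Rb (Rb ⧸ RingHom.ker (algebraMap Rb k)) k :=
    IsScalarTower.of_algebraMap_eq fun _ => rfl
  have : Module.Finite (Rb ⧸ RingHom.ker (algebraMap Rb k)) k :=
    Module.Finite.of_restrictScalars_finite Rb _ _
  have : Subsingleton Ω[k⁄(Rb ⧸ RingHom.ker (algebraMap Rb k))] :=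
    (KaehlerDifferential.map_surjective Rb (Rb ⧸ RingHom.ker (algebraMap Rb k)) k).subsingleton
  have : Algebra.FormallyUnramified (Rb ⧸ RingHom.ker (algebraMap Rb k)) k := ⟨this⟩
  have : Algebra.IsSeparable (Rb ⧸ RingHom.ker (algebraMap Rb k)) k :=
    Algebra.FormallyUnramified.isSeparable _ _
  have hsep := Algebra.IsSeparable.isSeparable (Rb ⧸ RingHom.ker (algebraMap Rb k)) α
  obtain ⟨f, hf⟩ := Polynomial.map_surjective (Ideal.Quotient.mk (RingHom.ker (algebraMap Rb k)))
    Ideal.Quotient.mk_surjective (minpoly (Rb ⧸ RingHom.ker (algebraMap Rb k)) α)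
  have e : ∀ g : Rb[X], Polynomial.aeval α (g.map (Ideal.Quotient.mk (RingHom.ker (algebraMap Rb k))))
      = Polynomial.aeval α g := fun g => by
    rw [← Ideal.Quotient.algebraMap_eq, Polynomial.aeval_map_algebraMap]
  refine ⟨f, by rw [← e, hf, minpoly.aeval], ?_⟩
  rw [← e, ← Polynomial.derivative_map, hf]
  exact Polynomial.Separable.aeval_derivative_ne_zero hsep (minpoly.aeval _ _)

/-- Uniqueness of a simple root with given residue. -/
theorem root_unique {B : Type u} [CommRing B] [IsLocalRing B] (g : B[X]) {a b : B}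
    (ha : g.eval a = 0) (hb : g.eval b = 0) (hab : b - a ∈ maximalIdeal B)
    (hd : IsUnit (g.derivative.eval a)) : a = b := by
  obtain ⟨w, hw⟩ := g.binomExpansion a (b - a)
  rw [add_sub_cancel, hb, ha, zero_add, pow_two, ← mul_assoc, ← add_mul] at hw
  have hu : IsUnit (g.derivative.eval a + w * (b - a)) := by
    by_contra h
    rw [← mem_nonunits_iff, ← IsLocalRing.mem_maximalIdeal] at h
    have := (maximalIdeal B).sub_mem h (Ideal.mul_mem_left _ w hab)
    rw [add_sub_cancel_right] at this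
    exact (IsLocalRing.mem_maximalIdeal _).1 this hd
  exact (sub_eq_zero.1 (hu.mul_right_eq_zero.1 hw.symm)).symm

variable {Λ : Type u} {k : Type u} [CommRing Λ] [Field k] [Algebra Λ k]

variable (Λ k) in
/-- The square-zero extension of the field by a vector space of dimension `m`. -/
noncomputable def tm (m : ℕ) : Art Λ k :=
  { carrier := TrivSqZeroExt k (Fin m → k)
    isLocalRing := Art.isLocalRing_tsze k (Fin m → k)
    isArtinianRing := Art.isArtinianRing_tsze k (Fin m → k)
    res := TrivSqZeroExt.fstHom Λ k (Fin m → k)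
    res_surjective := fun a => ⟨TrivSqZeroExt.inl a, rfl⟩ }

/-- The map out of `k ⊕ kᵐ` given by a derivation and a linear form. -/
noncomputable def tmHom {m : ℕ} (σ : Derivation Λ k k) (c : Fin m → k) : tm Λ k m ⟶ Art.dual Λ k :=
  ⟨({ toFun := fun z : TrivSqZeroExt k (Fin m → k) =>
        ((z.fst, σ z.fst + ∑ l, z.snd l * c l) : DualNumber k)
      map_one' := TrivSqZeroExt.ext rfl (by
        change σ (1 : k) + ∑ l, (0 : Fin m → k) l * c l = 0
        simp)
      map_zero' := TrivSqZeroExt.ext rfl (by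
        change σ (0 : k) + ∑ l, (0 : Fin m → k) l * c l = 0
        simp)
      map_add' := fun z w => TrivSqZeroExt.ext rfl (by
        change σ (z.fst + w.fst) + ∑ l, (z.snd l + w.snd l) * c l =
          (σ z.fst + ∑ l, z.snd l * c l) + (σ w.fst + ∑ l, w.snd l * c l)
        rw [map_add]
        simp only [add_mul, Finset.sum_add_distrib]
        abel)
      map_mul' := fun z w => TrivSqZeroExt.ext rfl (by
        change σ (z.fst * w.fst) + ∑ l, (z.fst • w.snd + MulOpposite.op w.fst • z.snd) l * c l =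
          z.fst • (σ w.fst + ∑ l, w.snd l * c l) + MulOpposite.op w.fst • (σ z.fst + ∑ l, z.snd l * c l)
        simp only [Derivation.leibniz, op_smul_eq_smul, smul_eq_mul, Pi.add_apply, Pi.smul_apply,
          add_mul, Finset.sum_add_distrib, mul_add, Finset.mul_sum, mul_assoc]
        abel)
      commutes' := fun r => TrivSqZeroExt.ext rfl (by
        change σ (algebraMap Λ k r) + ∑ l, (0 : Fin m → k) l * c l = (0 : k)
        simp) } : TrivSqZeroExt k (Fin m → k) →ₐ[Λ] DualNumber k),
   AlgHom.ext fun _ => rfl⟩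

theorem tmHom_apply {m : ℕ} (σ : Derivation Λ k k) (c : Fin m → k) (z : tm Λ k m) :
    TrivSqZeroExt.snd (tmHom σ c z) =
      σ (TrivSqZeroExt.fst (R := k) (M := Fin m → k) z) +
        ∑ l, TrivSqZeroExt.snd (R := k) (M := Fin m → k) z l * c l := rfl

variable [IsNoetherianRing Λ] [Module.Finite Λ k]

/-- A formally smooth presentation. -/
theorem exists_presentation (m : ℕ) :
    ∃ (P : Type u) (_ : CommRing P) (_ : Algebra Λ P) (_ : IsNoetherianRing P) (π : P →ₐ[Λ] k),
      Function.Surjective π ∧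
      (∀ ⦃B A : Art Λ k⦄ (p : B ⟶ A), Art.IsSmallExt p → ∀ φ : HomSet P π A,
        ∃ ψ : HomSet P π B, HomSet.map p ψ = φ) ∧
      ∃ π₁ : HomSet P π (tm Λ k m), Function.Surjective π₁.1 ∧
        ∀ δ : HomSet P π (Art.dual Λ k), ∃ (σ : Derivation Λ k k) (c : Fin m → k),
          HomSet.map (tmHom σ c) π₁ = δ := by
  classical
  have : Algebra.FiniteType Λ k := inferInstance
  have : Module.Finite k Ω[k⁄Λ] := inferInstance
  obtain ⟨r, y, bf, hy⟩ : ∃ (r : ℕ) (y : Fin r → k) (bf : Module.Basis (Fin r) k Ω[k⁄Λ]),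
      ∀ i, KaehlerDifferential.D Λ k (y i) = bf i := by
    let bas := Module.Basis.ofSpan (KaehlerDifferential.span_range_derivation Λ k).ge
    let := FiniteDimensional.fintypeBasisIndex bas
    have h : ∀ i, ∃ y : k, KaehlerDifferential.D Λ k y = bas i := fun i =>
      Module.Basis.ofSpan_subset (KaehlerDifferential.span_range_derivation Λ k).ge ⟨i, rfl⟩
    choose y hy using h
    exact ⟨_, fun i => y ((Fintype.equivFin _).symm i), bas.reindex (Fintype.equivFin _),
      fun i => (hy _).trans (Module.Basis.reindex_apply bas _ i).symm⟩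
  let : Algebra (MvPolynomial (Fin r) Λ) k := (MvPolynomial.aeval (R := Λ) y).toRingHom.toAlgebra
  have : IsScalarTower Λ (MvPolynomial (Fin r) Λ) k :=
    IsScalarTower.of_algebraMap_eq fun x => ((MvPolynomial.aeval (R := Λ) y).commutes x).symm
  have : Module.Finite (MvPolynomial (Fin r) Λ) k :=
    Module.Finite.of_restrictScalars_finite Λ _ _
  have : Subsingleton Ω[k⁄MvPolynomial (Fin r) Λ] := by
    have hz : KaehlerDifferential.map Λ (MvPolynomial (Fin r) Λ) k k = 0 := bf.ext fun i => by
      rw [← hy, KaehlerDifferential.map_D, LinearMap.zero_apply]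
      have : algebraMap k k (y i) = algebraMap (MvPolynomial (Fin r) Λ) k (MvPolynomial.X i) :=
        (MvPolynomial.aeval_X y i).symm
      rw [this, Derivation.map_algebraMap]
    refine ⟨fun a b => ?_⟩
    obtain ⟨a, rfl⟩ := KaehlerDifferential.map_surjective Λ (MvPolynomial (Fin r) Λ) k a
    obtain ⟨b, rfl⟩ := KaehlerDifferential.map_surjective Λ (MvPolynomial (Fin r) Λ) k b
    rw [hz]; rfl
  obtain ⟨S, hS⟩ := Module.Finite.fg_top (R := Λ) (M := k)
  obtain ⟨s, α, hα⟩ := Submodule.fg_iff_exists_fin_generating_family.1 ⟨S, hS⟩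
  choose f hf hf' using fun j : Fin s => exists_simple_root (Rb := MvPolynomial (Fin r) Λ) (α j)
  let W := Fin r ⊕ Fin s ⊕ Fin m
  let rel : Fin s → MvPolynomial W Λ := fun j =>
    (f j).eval₂ (MvPolynomial.rename (Sum.inl : Fin r → W)).toRingHom
      (MvPolynomial.X (Sum.inr (Sum.inl j)))
  let I : Ideal (MvPolynomial W Λ) := Ideal.span (Set.range rel)
  have hrel : ∀ {B : Type u} [CommRing B] [Algebra Λ B] (g : W → B) (j : Fin s),
      MvPolynomial.aeval g (rel j) = ((f j).map (MvPolynomial.aeval (g ∘ Sum.inl)).toRingHom).eval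
        (g (Sum.inr (Sum.inl j))) := by
    intro B _ _ g j
    simp only [rel, Polynomial.eval_map]
    refine ((f j).hom_eval₂ _ (MvPolynomial.aeval g).toRingHom _).trans ?_
    congr 1
    · exact RingHom.ext fun z => MvPolynomial.aeval_rename _ _ _
    · exact MvPolynomial.aeval_X _ _
  have hout : ∀ {B : Type u} [CommRing B] [Algebra Λ B] (g : W → B),
      (∀ j, ((f j).map (MvPolynomial.aeval (g ∘ Sum.inl)).toRingHom).eval (g (Sum.inr (Sum.inl j))) = 0) →
      ∃ h : (MvPolynomial W Λ ⧸ I) →ₐ[Λ] B, ∀ w, h (Ideal.Quotient.mk I (MvPolynomial.X w)) = g w := by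
    intro B _ _ g hg
    refine ⟨Ideal.Quotient.liftₐ I (MvPolynomial.aeval g) fun a ha => ?_, fun w => ?_⟩
    · have : I ≤ RingHom.ker (MvPolynomial.aeval g) := Ideal.span_le.2 (by
        rintro _ ⟨j, rfl⟩
        exact RingHom.mem_ker.2 ((hrel g j).trans (hg j)))
      exact this ha
    · exact MvPolynomial.aeval_X g w
  have hin : ∀ {B : Type u} [CommRing B] [Algebra Λ B] (h : (MvPolynomial W Λ ⧸ I) →ₐ[Λ] B) (j : Fin s),
      ((f j).map (MvPolynomial.aeval fun i => h (Ideal.Quotient.mk I (MvPolynomial.X (Sum.inl i)))).toRingHom).eval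
        (h (Ideal.Quotient.mk I (MvPolynomial.X (Sum.inr (Sum.inl j))))) = 0 := by
    intro B _ _ h j
    have e : h.comp (Ideal.Quotient.mkₐ Λ I) =
        MvPolynomial.aeval fun w => h (Ideal.Quotient.mk I (MvPolynomial.X w)) :=
      MvPolynomial.algHom_ext fun w => by simp
    refine (hrel (fun w => h (Ideal.Quotient.mk I (MvPolynomial.X w))) j).symm.trans ?_
    rw [← e]
    change h (Ideal.Quotient.mk I (rel j)) = 0
    rw [Ideal.Quotient.eq_zero_iff_mem.2 (show rel j ∈ I from Ideal.subset_span ⟨j, rfl⟩), map_zero]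
  have hext : ∀ {B : Type u} [CommRing B] [Algebra Λ B] (h h' : (MvPolynomial W Λ ⧸ I) →ₐ[Λ] B),
      (∀ w, h (Ideal.Quotient.mk I (MvPolynomial.X w)) = h' (Ideal.Quotient.mk I (MvPolynomial.X w))) →
        h = h' := by
    intro B _ _ h h' e
    refine AlgHom.ext fun z => ?_
    obtain ⟨z, rfl⟩ := Ideal.Quotient.mk_surjective z
    exact DFunLike.congr_fun (MvPolynomial.algHom_ext (f := h.comp (Ideal.Quotient.mkₐ Λ I))
      (g := h'.comp (Ideal.Quotient.mkₐ Λ I)) e) z
  let v : W → k := Sum.elim y (Sum.elim α fun _ => 0)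
  have hv : ∀ j, ((f j).map (MvPolynomial.aeval (v ∘ Sum.inl)).toRingHom).eval (v (Sum.inr (Sum.inl j))) = 0 :=
    fun j => by rw [Polynomial.eval_map]; exact hf j
  obtain ⟨π, hπ⟩ := hout v hv
  -- residues
  have hresA : ∀ {A : Art Λ k} (a : Fin r → A), (∀ i, A.res (a i) = y i) → ∀ (b : A) (g : (MvPolynomial (Fin r) Λ)[X]),
      A.res ((g.map (MvPolynomial.aeval a).toRingHom).eval b) = Polynomial.aeval (A.res b) g := by
    intro A a ha b g
    rw [Polynomial.eval_map]
    refine (g.hom_eval₂ _ A.res.toRingHom _).trans ?_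
    congr 1
    refine RingHom.ext fun z => ?_
    exact DFunLike.congr_fun (MvPolynomial.algHom_ext (f := A.res.comp (MvPolynomial.aeval a))
      (g := MvPolynomial.aeval y) fun i => by simp [ha]) z
  have hunit : ∀ {A : Art Λ k} (a : Fin r → A), (∀ i, A.res (a i) = y i) → ∀ j (b : A), A.res b = α j →
      IsUnit (((f j).map (MvPolynomial.aeval a).toRingHom).derivative.eval b) := by
    intro A a ha j b hb
    by_contra h
    rw [← mem_nonunits_iff, ← IsLocalRing.mem_maximalIdeal, Art.mem_maximalIdeal_iff,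
      Polynomial.derivative_map, hresA a ha, hb] at h
    exact hf' j h
  have hres : ∀ {A : Art Λ k} (φ : HomSet (MvPolynomial W Λ ⧸ I) π A) (w : W),
      A.res (φ.1 (Ideal.Quotient.mk I (MvPolynomial.X w))) = v w := fun φ w =>
    (DFunLike.congr_fun φ.2 _).trans (hπ w)
  have hmk : ∀ {A : Art Λ k} (h : (MvPolynomial W Λ ⧸ I) →ₐ[Λ] A),
      (∀ w, A.res (h (Ideal.Quotient.mk I (MvPolynomial.X w))) = v w) → A.res.comp h = π :=
    fun {A} h e => hext _ _ fun w => (e w).trans (hπ w).symm
  have hsurj : Function.Surjective π := fun c => by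
    have : c ∈ Submodule.span Λ (Set.range α) := hα ▸ Submodule.mem_top
    have hle : Submodule.span Λ (Set.range α) ≤ LinearMap.range π.toLinearMap :=
      Submodule.span_le.2 (by
        rintro _ ⟨j, rfl⟩
        exact ⟨Ideal.Quotient.mk I (MvPolynomial.X (Sum.inr (Sum.inl j))), hπ _⟩)
    exact hle this
  -- the first stage
  let v₁ : W → tm Λ k m := fun w =>
    ((v w, Sum.elim (fun _ => 0) (Sum.elim (fun _ => 0) fun l => Pi.single l 1) w) :
      TrivSqZeroExt k (Fin m → k))
  let ι : k →ₐ[Λ] tm Λ k m := TrivSqZeroExt.inlAlgHom Λ k (Fin m → k)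
  have hv₁ : ∀ j, ((f j).map (MvPolynomial.aeval (v₁ ∘ Sum.inl)).toRingHom).eval
      (v₁ (Sum.inr (Sum.inl j))) = 0 := fun j => by
    have e : MvPolynomial.aeval (v₁ ∘ Sum.inl) = ι.comp (MvPolynomial.aeval (v ∘ Sum.inl)) :=
      MvPolynomial.algHom_ext fun i => by
        simp only [MvPolynomial.aeval_X, AlgHom.comp_apply]
        rfl
    rw [e]
    change ((f j).map (ι.toRingHom.comp _)).eval (ι (v (Sum.inr (Sum.inl j)))) = 0
    rw [← Polynomial.map_map]
    exact ((Polynomial.eval_map_apply _ _).trans (congrArg ι.toRingHom (hv j))).trans (map_zero ι.toRingHom)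
  obtain ⟨π₁, hπ₁⟩ := hout v₁ hv₁
  have hπ₁r : (tm Λ k m).res.comp π₁ = π := hmk π₁ fun w => by rw [hπ₁]; rfl
  have hι : ∀ z, (∀ l : Fin m, (π₁ z : TrivSqZeroExt k (Fin m → k)).snd l = 0) → π₁ z = ι (π z) := by
    intro z hz
    exact TrivSqZeroExt.ext (DFunLike.congr_fun hπ₁r z) (funext hz)
  refine ⟨MvPolynomial W Λ ⧸ I, inferInstance, inferInstance, inferInstance, π, hsurj, ?_,
    ⟨π₁, hπ₁r⟩, ?_, fun δ => ?_⟩
  · intro B A p hp φ
    choose b hb using fun w => hp.1 (φ.1 (Ideal.Quotient.mk I (MvPolynomial.X w)))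
    have hbres : ∀ w, B.res (b w) = v w := fun w => by rw [← Art.res_app p, hb, hres]
    have hya : ∀ i, B.res ((b ∘ Sum.inl) i) = y i := fun i => hbres _
    let g := fun j => (f j).map (MvPolynomial.aeval (b ∘ Sum.inl)).toRingHom
    have hg0 : ∀ j, p ((g j).eval (b (Sum.inr (Sum.inl j)))) = 0 := by
      intro j
      change p.toAlgHom.toRingHom _ = 0
      rw [← Polynomial.eval_map_apply, Polynomial.map_map]
      refine Eq.trans ?_ (hin φ.1 j)
      congr 1
      · exact hb _
      · congr 1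
        refine RingHom.ext fun z => ?_
        exact DFunLike.congr_fun (MvPolynomial.algHom_ext (f := p.toAlgHom.comp (MvPolynomial.aeval (b ∘ Sum.inl)))
          (g := MvPolynomial.aeval fun i => φ.1 (Ideal.Quotient.mk I (MvPolynomial.X (Sum.inl i))))
          fun i => by simp [hb]) z
    have hu : ∀ j, IsUnit ((g j).derivative.eval (b (Sum.inr (Sum.inl j)))) := fun j =>
      hunit _ hya j _ (hbres _)
    let h := fun j => -((g j).eval (b (Sum.inr (Sum.inl j))) * ↑(hu j).unit⁻¹)
    have hh : ∀ j, p (h j) = 0 := fun j => by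
      simp only [h, map_neg, map_mul, hg0, zero_mul, neg_zero]
    let b' : W → B := fun w => match w with
      | Sum.inl i => b (Sum.inl i)
      | Sum.inr (Sum.inl j) => b (Sum.inr (Sum.inl j)) + h j
      | Sum.inr (Sum.inr l) => b (Sum.inr (Sum.inr l))
    have hb' : ∀ j, ((f j).map (MvPolynomial.aeval (b' ∘ Sum.inl)).toRingHom).eval
        (b' (Sum.inr (Sum.inl j))) = 0 := fun j => by
      change (g j).eval (b (Sum.inr (Sum.inl j)) + h j) = 0
      obtain ⟨w, hw⟩ := (g j).binomExpansion (b (Sum.inr (Sum.inl j))) (h j)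
      have hsq : h j * h j = 0 := mul_eq_zero_of_semismall hp.isSemismallExt
        (by rw [Art.mem_maximalIdeal_iff, ← Art.res_app p, hh, map_zero]) (hh j)
      rw [hw, pow_two, hsq, mul_zero, add_zero]
      have : (g j).derivative.eval (b (Sum.inr (Sum.inl j))) * ↑(hu j).unit⁻¹ = 1 := (hu j).mul_val_inv
      simp only [h, mul_neg]
      rw [mul_left_comm, this, mul_one, add_neg_cancel]
    obtain ⟨ψ, hψ⟩ := hout b' hb'
    have hpb : ∀ w, p (b' w) = φ.1 (Ideal.Quotient.mk I (MvPolynomial.X w)) := fun w => by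
      rcases w with i | j | l
      · exact hb _
      · simp only [b', map_add, hh, add_zero, hb]
      · exact hb _
    refine ⟨⟨ψ, hmk ψ fun w => ?_⟩, Subtype.ext (hext _ _ fun w => ?_)⟩
    · rw [hψ, ← Art.res_app p, hpb, hres]
    · change p (ψ _) = _
      rw [hψ, hpb]
  · intro (z : TrivSqZeroExt k (Fin m → k))
    choose q hq using hsurj
    have hzero : ∀ p', (π₁ p' : TrivSqZeroExt k (Fin m → k)).fst = π p' := fun p' =>
      DFunLike.congr_fun hπ₁r p'
    let x : Fin m → MvPolynomial W Λ ⧸ I := fun l => Ideal.Quotient.mk I (MvPolynomial.X (Sum.inr (Sum.inr l)))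
    have hxl : ∀ (c : k) (l : Fin m), π₁ (q c * x l) = (TrivSqZeroExt.inr (Pi.single l c) : TrivSqZeroExt k (Fin m → k)) := by
      intro c l
      rw [map_mul, show π₁ (x l) = v₁ (Sum.inr (Sum.inr l)) from hπ₁ _]
      refine TrivSqZeroExt.ext (mul_zero _) ?_
      change (π₁ (q c) : TrivSqZeroExt k (Fin m → k)).fst • Pi.single l (1 : k) +
        MulOpposite.op (0 : k) • (π₁ (q c) : TrivSqZeroExt k (Fin m → k)).snd = Pi.single l c
      rw [hzero (q c), hq, op_smul_eq_smul, zero_smul, add_zero, ← Pi.single_smul, smul_eq_mul, mul_one]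
    refine ⟨q z.fst + ∑ l, q (z.snd l - (π₁ (q z.fst) : TrivSqZeroExt k (Fin m → k)).snd l) * x l, ?_⟩
    rw [map_add, map_sum, Finset.sum_congr rfl fun l _ => hxl _ l]
    refine TrivSqZeroExt.ext ?_ ?_
    · change (π₁ (q z.fst) : TrivSqZeroExt k (Fin m → k)).fst +
        (∑ l, TrivSqZeroExt.inr (Pi.single l _) : TrivSqZeroExt k (Fin m → k)).fst = z.fst
      rw [TrivSqZeroExt.fst_sum]
      simp only [TrivSqZeroExt.fst_inr, Finset.sum_const_zero, add_zero]
      exact (DFunLike.congr_fun hπ₁r (q z.fst)).trans (hq _)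
    · change (π₁ (q z.fst) : TrivSqZeroExt k (Fin m → k)).snd +
        (∑ l, TrivSqZeroExt.inr (Pi.single l _) : TrivSqZeroExt k (Fin m → k)).snd = z.snd
      rw [TrivSqZeroExt.snd_sum]
      simp only [TrivSqZeroExt.snd_inr, Finset.univ_sum_single]
      funext l
      simp
  · let d := fun w => TrivSqZeroExt.snd (R := k) (M := k) (δ.1 (Ideal.Quotient.mk I (MvPolynomial.X w)))
    let σ : Derivation Λ k k := KaehlerDifferential.linearMapEquivDerivation Λ k
      (bf.constr k fun i => d (Sum.inl i))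
    have hσ : ∀ i, σ (y i) = d (Sum.inl i) := fun i => by
      change bf.constr k (fun i => d (Sum.inl i)) (KaehlerDifferential.D Λ k (y i)) = _
      rw [hy, Module.Basis.constr_basis]
    refine ⟨σ, fun l => d (Sum.inr (Sum.inr l)), Subtype.ext (hext _ _ ?_)⟩
    let g' := (tmHom σ fun l => d (Sum.inr (Sum.inr l))).toAlgHom.comp π₁
    have hY : ∀ i, g' (Ideal.Quotient.mk I (MvPolynomial.X (Sum.inl i))) =
        δ.1 (Ideal.Quotient.mk I (MvPolynomial.X (Sum.inl i))) := fun i => by
      change tmHom σ _ (π₁ _) = _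
      rw [hπ₁]
      refine TrivSqZeroExt.ext (show v (Sum.inl i) = _ from (hres δ _).symm) ?_
      refine (tmHom_apply _ _ _).trans ?_
      change σ (y i) + ∑ l, (0 : Fin m → k) l * _ = d _
      simp [hσ]
    intro w
    rcases w with i | j | l
    · exact hY i
    · have e1 := hin g' j
      have e2 := hin δ.1 j
      simp only [hY] at e1
      refine root_unique _ e1 e2 ?_ (hunit _ (fun i => hres δ _) j _ ?_)
      · rw [Art.mem_maximalIdeal_iff, map_sub, hres δ, sub_eq_zero]
        exact Eq.symm ((Art.res_app (tmHom σ _) _).trans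
          (DFunLike.congr_fun hπ₁r _ |>.trans (hπ _)))
      · exact (Art.res_app (tmHom σ _) _).trans (DFunLike.congr_fun hπ₁r _ |>.trans (hπ _))
    · change tmHom σ _ (π₁ _) = _
      rw [hπ₁]
      refine TrivSqZeroExt.ext (show v (Sum.inr (Sum.inr l)) = _ from (hres δ _).symm) ?_
      refine (tmHom_apply _ _ _).trans ?_
      change σ (0 : k) + ∑ l', (Pi.single l (1 : k) : Fin m → k) l' * d (Sum.inr (Sum.inr l')) = d _
      simp [Pi.single_apply]

end Groth.Agent.Schless
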